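import Cfsg.Agent.Lib.H17.Fi22U62.Tables

set_option autoImplicit false
set_option maxRecDepth 100000

/-! # Relator checks for Fi22U62, part 0 (generated) -/

namespace Cfsg.Agent.Lib.H17.Fi22U62

open Cfsg.Spor Cfsg.Agent.Lib.H17.CosetCert Cfsg.Agent.Lib.H17.CoxGlue Cfsg.Agent.Lib.H17.Fi22Glue

theorem relT0_ok : checkWord 12 4096 relT0 3510 = true := by
  decide +kernel

theorem relT1_ok : checkWord 12 4096 relT1 3510 = true := by
  decide +kernel

theorem relT2_ok : checkWord 12 4096 relT2 3510 = true := by
  decide +kernel

theorem relT3_ok : checkWord 12 4096 relT3 3510 = true := by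
  decide +kernel

theorem relT4_ok : checkWord 12 4096 relT4 3510 = true := by
  decide +kernel

theorem relT5_ok : checkWord 12 4096 relT5 3510 = true := by
  decide +kernel

theorem relT6_ok : checkWord 12 4096 relT6 3510 = true := by
  decide +kernel

theorem relT7_ok : checkWord 12 4096 relT7 3510 = true := by
  decide +kernel

theorem relT8_ok : checkWord 12 4096 relT8 3510 = true := by
  decide +kernel

theorem relT9_ok : checkWord 12 4096 relT9 3510 = true := by
  decide +kernel

theorem relT10_ok : checkWord 12 4096 relT10 3510 = true := by
  decide +kernel

theorem relT11_ok : checkWord 12 4096 relT11 3510 = true := by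
  decide +kernel

theorem relT12_ok : checkWord 12 4096 relT12 3510 = true := by
  decide +kernel

theorem relT13_ok : checkWord 12 4096 relT13 3510 = true := by
  decide +kernel

theorem relT14_ok : checkWord 12 4096 relT14 3510 = true := by
  decide +kernel

theorem relT15_ok : checkWord 12 4096 relT15 3510 = true := by
  decide +kernel

theorem relT16_ok : checkWord 12 4096 relT16 3510 = true := by
  decide +kernel

theorem relT17_ok : checkWord 12 4096 relT17 3510 = true := by
  decide +kernel

theorem relT18_ok : checkWord 12 4096 relT18 3510 = true := by
  decide +kernel

theorem relT19_ok : checkWord 12 4096 relT19 3510 = true := by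
  decide +kernel

theorem relT20_ok : checkWord 12 4096 relT20 3510 = true := by
  decide +kernel

theorem relT21_ok : checkWord 12 4096 relT21 3510 = true := by
  decide +kernel

theorem relT22_ok : checkWord 12 4096 relT22 3510 = true := by
  decide +kernel

theorem relT23_ok : checkWord 12 4096 relT23 3510 = true := by
  decide +kernel

theorem relT24_ok : checkWord 12 4096 relT24 3510 = true := by
  decide +kernel

theorem relT25_ok : checkWord 12 4096 relT25 3510 = true := by
  decide +kernel

theorem relT26_ok : checkWord 12 4096 relT26 3510 = true := by
  decide +kernel

theorem relT27_ok : checkWord 12 4096 relT27 3510 = true := by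
  decide +kernel

theorem relT28_ok : checkWord 12 4096 relT28 3510 = true := by
  decide +kernel

theorem relT29_ok : checkWord 12 4096 relT29 3510 = true := by
  decide +kernel

theorem relT30_ok : checkWord 12 4096 relT30 3510 = true := by
  decide +kernel

theorem relT31_ok : checkWord 12 4096 relT31 3510 = true := by
  decide +kernel

theorem relT32_ok : checkWord 12 4096 relT32 3510 = true := by
  decide +kernel

theorem relT33_ok : checkWord 12 4096 relT33 3510 = true := by
  decide +kernel

theorem relT34_ok : checkWord 12 4096 relT34 3510 = true := by
  decide +kernel

theorem relT35_ok : checkWord 12 4096 relT35 3510 = true := by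
  decide +kernel

theorem relT36_ok : checkWord 12 4096 relT36 3510 = true := by
  decide +kernel

theorem relT37_ok : checkWord 12 4096 relT37 3510 = true := by
  decide +kernel

theorem relT38_ok : checkWord 12 4096 relT38 3510 = true := by
  decide +kernel

theorem relT39_ok : checkWord 12 4096 relT39 3510 = true := by
  decide +kernel

theorem relT40_ok : checkWord 12 4096 relT40 3510 = true := by
  decide +kernel

theorem relT41_ok : checkWord 12 4096 relT41 3510 = true := by
  decide +kernel

theorem relT42_ok : checkWord 12 4096 relT42 3510 = true := by
  decide +kernel

theorem relT43_ok : checkWord 12 4096 relT43 3510 = true := by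
  decide +kernel

theorem relT44_ok : checkWord 12 4096 relT44 3510 = true := by
  decide +kernel

theorem relT45_ok : checkWord 12 4096 relT45 3510 = true := by
  decide +kernel

theorem relT46_ok : checkWord 12 4096 relT46 3510 = true := by
  decide +kernel

theorem relT47_ok : checkWord 12 4096 relT47 3510 = true := by
  decide +kernel

theorem relT48_ok : checkWord 12 4096 relT48 3510 = true := by
  decide +kernel

end Cfsg.Agent.Lib.H17.Fi22U62
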