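import Cfsg.Agent.Lib.H17.Fi22U62.StepsA
import Cfsg.Agent.Lib.H17.Fi22U62.Rows

set_option autoImplicit false
set_option maxRecDepth 100000

/-! # Upper bound for the index, Fi22U62 (generated) -/

namespace Cfsg.Agent.Lib.H17.Fi22U62

open Cfsg.Spor Cfsg.Agent.Lib.H17.CosetCert Cfsg.Agent.Lib.H17.CoxGlue Cfsg.Agent.Lib.H17.Fi22Glue

/-- the presented group -/
abbrev G : Type := PresentedGroup rels

/-- the subgroup generators as words -/
abbrev S : Set (FreeGroup Gen) :=
  {Cfsg.Spor.Fi22.a, Cfsg.Spor.Fi22.c, Cfsg.Spor.Fi22.d, Cfsg.Spor.Fi22.e, Cfsg.Spor.Fi22.f, Cfsg.Spor.Fi22.g, Cfsg.Spor.Fi22.h, Cfsg.Spor.Fi22.i, (Cfsg.Spor.Fi22.a * Cfsg.Spor.Fi22.b * Cfsg.Spor.Fi22.c * Cfsg.Spor.Fi22.d * Cfsg.Spor.Fi22.e * Cfsg.Spor.Fi22.h) ^ 5}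

/-- the subgroup -/
abbrev H : Subgroup G := (Subgroup.closure S).map (PresentedGroup.mk rels)

/-- the generator images -/
noncomputable def γ (x : ℕ) : G := PresentedGroup.of (gen x)

theorem γ_mul_self (x : ℕ) : γ x * γ x = 1 := of_mul_self _

/-- letters of subgroup generator 0 -/
def sgL0 : List (Gen × Bool) := [(.a, true)]

theorem sg0_eq : (Cfsg.Spor.Fi22.a : FreeGroup Gen) = FreeGroup.mk sgL0 := by rfl

theorem sg0_mem : (Cfsg.Spor.Fi22.a : FreeGroup Gen) ∈ S := by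
  simp [S]

/-- letters of subgroup generator 1 -/
def sgL1 : List (Gen × Bool) := [(.c, true)]

theorem sg1_eq : (Cfsg.Spor.Fi22.c : FreeGroup Gen) = FreeGroup.mk sgL1 := by rfl

theorem sg1_mem : (Cfsg.Spor.Fi22.c : FreeGroup Gen) ∈ S := by
  simp [S]

/-- letters of subgroup generator 2 -/
def sgL2 : List (Gen × Bool) := [(.d, true)]

theorem sg2_eq : (Cfsg.Spor.Fi22.d : FreeGroup Gen) = FreeGroup.mk sgL2 := by rfl

theorem sg2_mem : (Cfsg.Spor.Fi22.d : FreeGroup Gen) ∈ S := by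
  simp [S]

/-- letters of subgroup generator 3 -/
def sgL3 : List (Gen × Bool) := [(.e, true)]

theorem sg3_eq : (Cfsg.Spor.Fi22.e : FreeGroup Gen) = FreeGroup.mk sgL3 := by rfl

theorem sg3_mem : (Cfsg.Spor.Fi22.e : FreeGroup Gen) ∈ S := by
  simp [S]

/-- letters of subgroup generator 4 -/
def sgL4 : List (Gen × Bool) := [(.f, true)]

theorem sg4_eq : (Cfsg.Spor.Fi22.f : FreeGroup Gen) = FreeGroup.mk sgL4 := by rfl

theorem sg4_mem : (Cfsg.Spor.Fi22.f : FreeGroup Gen) ∈ S := by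
  simp [S]

/-- letters of subgroup generator 5 -/
def sgL5 : List (Gen × Bool) := [(.g, true)]

theorem sg5_eq : (Cfsg.Spor.Fi22.g : FreeGroup Gen) = FreeGroup.mk sgL5 := by rfl

theorem sg5_mem : (Cfsg.Spor.Fi22.g : FreeGroup Gen) ∈ S := by
  simp [S]

/-- letters of subgroup generator 6 -/
def sgL6 : List (Gen × Bool) := [(.h, true)]

theorem sg6_eq : (Cfsg.Spor.Fi22.h : FreeGroup Gen) = FreeGroup.mk sgL6 := by rfl

theorem sg6_mem : (Cfsg.Spor.Fi22.h : FreeGroup Gen) ∈ S := by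
  simp [S]

/-- letters of subgroup generator 7 -/
def sgL7 : List (Gen × Bool) := [(.i, true)]

theorem sg7_eq : (Cfsg.Spor.Fi22.i : FreeGroup Gen) = FreeGroup.mk sgL7 := by rfl

theorem sg7_mem : (Cfsg.Spor.Fi22.i : FreeGroup Gen) ∈ S := by
  simp [S]

/-- letters of subgroup generator 8 -/
def sgL8 : List (Gen × Bool) := [(.a, true), (.b, true), (.c, true), (.d, true), (.e, true), (.h, true), (.a, true), (.b, true), (.c, true), (.d, true), (.e, true), (.h, true), (.a, true), (.b, true), (.c, true), (.d, true), (.e, true), (.h, true), (.a, true), (.b, true), (.c, true), (.d, true), (.e, true), (.h, true), (.a, true), (.b, true), (.c, true), (.d, true), (.e, true), (.h, true)]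

theorem sg8_eq : ((Cfsg.Spor.Fi22.a * Cfsg.Spor.Fi22.b * Cfsg.Spor.Fi22.c * Cfsg.Spor.Fi22.d * Cfsg.Spor.Fi22.e * Cfsg.Spor.Fi22.h) ^ 5 : FreeGroup Gen) = FreeGroup.mk sgL8 := by rfl

theorem sg8_mem : ((Cfsg.Spor.Fi22.a * Cfsg.Spor.Fi22.b * Cfsg.Spor.Fi22.c * Cfsg.Spor.Fi22.d * Cfsg.Spor.Fi22.e * Cfsg.Spor.Fi22.h) ^ 5 : FreeGroup Gen) ∈ S := by
  simp [S]

theorem mk_mk (L : List (Gen × Bool)) : PresentedGroup.mk rels (FreeGroup.mk L) =
    ((L.map Prod.fst).map (PresentedGroup.of (rels := rels))).prod := by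
  rw [mk_eq_lift, lift_mk_of_invol _ of_mul_self]

theorem sgW_mem : ∀ v ∈ sgW, (v.map γ).prod ∈ H := by
  intro v hv
  obtain ⟨t, ht, rfl⟩ := List.getElem_of_mem hv
  have ht' : t < 9 := ht
  interval_cases t
  · have h1 : PresentedGroup.mk rels (FreeGroup.mk sgL0) ∈ H :=
      Subgroup.mem_map_of_mem _ (Subgroup.subset_closure (sg0_eq ▸ sg0_mem))
    rw [mk_mk] at h1
    exact h1
  · have h1 : PresentedGroup.mk rels (FreeGroup.mk sgL1) ∈ H :=
      Subgroup.mem_map_of_mem _ (Subgroup.subset_closure (sg1_eq ▸ sg1_mem))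
    rw [mk_mk] at h1
    exact h1
  · have h1 : PresentedGroup.mk rels (FreeGroup.mk sgL2) ∈ H :=
      Subgroup.mem_map_of_mem _ (Subgroup.subset_closure (sg2_eq ▸ sg2_mem))
    rw [mk_mk] at h1
    exact h1
  · have h1 : PresentedGroup.mk rels (FreeGroup.mk sgL3) ∈ H :=
      Subgroup.mem_map_of_mem _ (Subgroup.subset_closure (sg3_eq ▸ sg3_mem))
    rw [mk_mk] at h1
    exact h1
  · have h1 : PresentedGroup.mk rels (FreeGroup.mk sgL4) ∈ H :=
      Subgroup.mem_map_of_mem _ (Subgroup.subset_closure (sg4_eq ▸ sg4_mem))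
    rw [mk_mk] at h1
    exact h1
  · have h1 : PresentedGroup.mk rels (FreeGroup.mk sgL5) ∈ H :=
      Subgroup.mem_map_of_mem _ (Subgroup.subset_closure (sg5_eq ▸ sg5_mem))
    rw [mk_mk] at h1
    exact h1
  · have h1 : PresentedGroup.mk rels (FreeGroup.mk sgL6) ∈ H :=
      Subgroup.mem_map_of_mem _ (Subgroup.subset_closure (sg6_eq ▸ sg6_mem))
    rw [mk_mk] at h1
    exact h1
  · have h1 : PresentedGroup.mk rels (FreeGroup.mk sgL7) ∈ H :=
      Subgroup.mem_map_of_mem _ (Subgroup.subset_closure (sg7_eq ▸ sg7_mem))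
    rw [mk_mk] at h1
    exact h1
  · have h1 : PresentedGroup.mk rels (FreeGroup.mk sgL8) ∈ H :=
      Subgroup.mem_map_of_mem _ (Subgroup.subset_closure (sg8_eq ▸ sg8_mem))
    rw [mk_mk] at h1
    exact h1

theorem words_OK : WordsOK γ ((1 : G) : G ⧸ H) words := by
  intro v hv
  obtain ⟨h1, h2⟩ := words_ok v hv
  constructor
  · intro hr q
    apply act_eq_of_prod_eq_one γ γ_mul_self
    have := relW_trivial _ (h1 hr)
    rw [List.map_map] at this
    exact this
  · intro hr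
    have hmem := sgW_mem _ (h2 hr)
    rw [act_eq_smul, prod_reverse_of_invol γ γ_mul_self]
    have hinvmem : ((v.1.map γ).prod)⁻¹ ∈ H := inv_mem hmem
    rw [MulAction.Quotient.smul_mk, smul_eq_mul, mul_one]
    apply Quotient.sound'
    rw [QuotientGroup.leftRel_apply]
    simpa using hmem

theorem inv_all : Inv F 9 γ ((1 : G) : G ⧸ H) 19005 3532 := by
  have h0 := inv_zero F 9 γ ((1 : G) : G ⧸ H)
  have h1 := checkSteps_sound F 9 16777216 γ γ_mul_self _ words words_OK steps0 0 1 339 h0 chk0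
  rw [len0] at h1
  have h2 := checkSteps_sound F 9 16777216 γ γ_mul_self _ words words_OK steps1 2000 339 702 h1 chk1
  rw [len1] at h2
  have h3 := checkSteps_sound F 9 16777216 γ γ_mul_self _ words words_OK steps2 4000 702 1068 h2 chk2
  rw [len2] at h3
  have h4 := checkSteps_sound F 9 16777216 γ γ_mul_self _ words words_OK steps3 6000 1068 1438 h3 chk3
  rw [len3] at h4
  have h5 := checkSteps_sound F 9 16777216 γ γ_mul_self _ words words_OK steps4 8000 1438 1822 h4 chk4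
  rw [len4] at h5
  have h6 := checkSteps_sound F 9 16777216 γ γ_mul_self _ words words_OK steps5 10000 1822 2223 h5 chk5
  rw [len5] at h6
  have h7 := checkSteps_sound F 9 16777216 γ γ_mul_self _ words words_OK steps6 12000 2223 2626 h6 chk6
  rw [len6] at h7
  have h8 := checkSteps_sound F 9 16777216 γ γ_mul_self _ words words_OK steps7 14000 2626 3002 h7 chk7
  rw [len7] at h8
  have h9 := checkSteps_sound F 9 16777216 γ γ_mul_self _ words words_OK steps8 16000 3002 3370 h8 chk8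
  rw [len8] at h9
  have h10 := checkSteps_sound F 9 16777216 γ γ_mul_self _ words words_OK steps9 18000 3370 3532 h9 chk9
  rw [len9] at h10
  exact h10

theorem gens_top : Subgroup.closure {g : G | ∃ x < 9, g = γ x} = ⊤ := closure_gens

theorem upper : Finite (G ⧸ H) ∧ Nat.card (G ⧸ H) ≤ 3510 := by
  have := card_le F 9 16777216 γ γ_mul_self _ 19005 3532 inv_all rows mask mask_ok mask_zero rows_ok gens_top
  rw [rows_length] at this
  exact this

end Cfsg.Agent.Lib.H17.Fi22U62
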